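import Mathlib
import Groth.Agent.Lib.Helper8.WProj.NilW

set_option autoImplicit false

universe u v

namespace Groth.Agent.H8.FNil

open Groth.Agent.H8.Disp MvPolynomial

section Coeff

variable {p : ℕ} [Fact p.Prime] {S : Type u} [CommRing S]

theorem coeff_frobenius_eq (x : WittVector p S) (n : ℕ) :
    (WittVector.frobenius x).coeff n =
      x.coeff n ^ p + (p : S) * aeval x.coeff (WittVector.frobeniusPolyAux p n) := by
  rw [WittVector.coeff_frobenius, WittVector.frobeniusPoly, map_add, map_mul, map_pow, aeval_X,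
    aeval_C]
  simp

theorem aeval_zero_frobeniusPolyAux (n : ℕ) :
    aeval (fun _ : ℕ => (0 : ℤ)) (WittVector.frobeniusPolyAux p n) = 0 := by
  have h := coeff_frobenius_eq (p := p) (0 : WittVector p ℤ) n
  rw [map_zero, WittVector.zero_coeff] at h
  have h0 : (0 : WittVector p ℤ).coeff = fun _ => (0 : ℤ) := funext fun i => WittVector.zero_coeff p ℤ i
  rw [h0, zero_pow (Fact.out : p.Prime).ne_zero, zero_add] at h
  have hp : ((p : ℕ) : ℤ) ≠ 0 := by exact_mod_cast (Fact.out : p.Prime).ne_zero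
  exact (mul_eq_zero.mp h.symm).resolve_left hp

theorem aeval_zero_frobeniusPolyAux' (A : Type*) [CommRing A] (n : ℕ) :
    aeval (fun _ : ℕ => (0 : A)) (WittVector.frobeniusPolyAux p n) = 0 := by
  have h := congrArg (Int.castRingHom A) (aeval_zero_frobeniusPolyAux (p := p) n)
  rw [map_zero, aeval_def, eval₂_comp_left] at h
  rw [aeval_def]
  convert h using 2
  · exact RingHom.ext_int _ _
  · funext i
    simp

theorem aeval_frobeniusPolyAux_mem (𝔟 : Ideal S) (x : WittVector p S) (hx : ∀ n, x.coeff n ∈ 𝔟)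
    (n : ℕ) : aeval x.coeff (WittVector.frobeniusPolyAux p n) ∈ 𝔟 := by
  rw [← Ideal.Quotient.eq_zero_iff_mem, aeval_def, eval₂_comp_left]
  have h := aeval_zero_frobeniusPolyAux' (p := p) (S ⧸ 𝔟) n
  rw [aeval_def] at h
  have e1 : (Ideal.Quotient.mk 𝔟).comp (algebraMap ℤ S) = algebraMap ℤ (S ⧸ 𝔟) :=
    RingHom.ext_int _ _
  have e2 : ⇑(Ideal.Quotient.mk 𝔟) ∘ x.coeff = fun _ => (0 : S ⧸ 𝔟) :=
    funext fun i => Ideal.Quotient.eq_zero_iff_mem.mpr (hx i)
  rw [e1, e2]
  exact h

end Coeff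

section Nilp

variable {p : ℕ} [Fact p.Prime] {S : Type u} [CommRing S]


theorem iterate_frobenius_coeff_sub_mem (x : WittVector p S) (j n : ℕ) :
    ((⇑(WittVector.frobenius : WittVector p S →+* WittVector p S))^[j] x).coeff n - x.coeff n ^ (p ^ j) ∈ Ideal.span {(p : S)} := by
  induction j with
  | zero => simp
  | succ j ih =>
    rw [Function.iterate_succ_apply', coeff_frobenius_eq, pow_succ, pow_mul]
    have h1 : ((⇑(WittVector.frobenius : WittVector p S →+* WittVector p S))^[j] x).coeff n ^ p - (x.coeff n ^ p ^ j) ^ p ∈ Ideal.span {(p : S)} := by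
      obtain ⟨c, hc⟩ := sub_dvd_pow_sub_pow (((⇑(WittVector.frobenius : WittVector p S →+* WittVector p S))^[j] x).coeff n) (x.coeff n ^ p ^ j) p
      rw [hc]
      exact Ideal.mul_mem_right _ _ ih
    have h2 : (p : S) * aeval ((⇑(WittVector.frobenius : WittVector p S →+* WittVector p S))^[j] x).coeff (WittVector.frobeniusPolyAux p n) ∈
        Ideal.span {(p : S)} := Ideal.mul_mem_right _ _ (Ideal.subset_span rfl)
    have : ((⇑(WittVector.frobenius : WittVector p S →+* WittVector p S))^[j] x).coeff n ^ p + (p : S) * aeval ((⇑(WittVector.frobenius : WittVector p S →+* WittVector p S))^[j] x).coeff (WittVector.frobeniusPolyAux p n) -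
        (x.coeff n ^ p ^ j) ^ p = (((⇑(WittVector.frobenius : WittVector p S →+* WittVector p S))^[j] x).coeff n ^ p - (x.coeff n ^ p ^ j) ^ p) +
          (p : S) * aeval ((⇑(WittVector.frobenius : WittVector p S →+* WittVector p S))^[j] x).coeff (WittVector.frobeniusPolyAux p n) := by ring
    rw [this]
    exact Ideal.add_mem _ h1 h2

theorem frobenius_coeff_mem_span_pow {k : ℕ} (hk : 1 ≤ k) (x : WittVector p S)
    (hx : ∀ n, x.coeff n ∈ Ideal.span {(p : S) ^ k}) (n : ℕ) :
    ((⇑(WittVector.frobenius : WittVector p S →+* WittVector p S)) x).coeff n ∈ Ideal.span {(p : S) ^ (k + 1)} := by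
  rw [coeff_frobenius_eq]
  have hp2 : 2 ≤ p := (Fact.out : p.Prime).two_le
  apply Ideal.add_mem
  · obtain ⟨c, hc⟩ := Ideal.mem_span_singleton.mp (hx n)
    rw [Ideal.mem_span_singleton, hc, mul_pow, ← pow_mul]
    have h1 : k + 1 ≤ k * p := by nlinarith
    exact Dvd.dvd.mul_right (pow_dvd_pow _ h1) _
  · obtain ⟨c, hc⟩ := Ideal.mem_span_singleton.mp (aeval_frobeniusPolyAux_mem _ x hx n)
    rw [Ideal.mem_span_singleton, hc, pow_succ]
    exact ⟨c, by ring⟩

theorem iterate_frobenius_coeff_mem_span_pow {k : ℕ} (hk : 1 ≤ k) (j : ℕ) (x : WittVector p S)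
    (hx : ∀ n, x.coeff n ∈ Ideal.span {(p : S) ^ k}) (n : ℕ) :
    ((⇑(WittVector.frobenius : WittVector p S →+* WittVector p S))^[j] x).coeff n ∈ Ideal.span {(p : S) ^ (k + j)} := by
  induction j generalizing n with
  | zero => exact hx n
  | succ j ih =>
    rw [Function.iterate_succ_apply', ← add_assoc]
    exact frobenius_coeff_mem_span_pow (by omega) _ ih n

theorem exists_iterate_frobenius_eq_zero {R : Type v} [CommRing R] (φ : S →+* R)
    (hp : IsNilpotent (p : S)) (N : ℕ) (hN : ∀ a : S, φ a = 0 → a ^ N = 0) :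
    ∃ m : ℕ, ∀ x ∈ RingHom.ker (WittVector.map (p := p) φ), (⇑(WittVector.frobenius : WittVector p S →+* WittVector p S))^[m] x = 0 := by
  obtain ⟨E, hE⟩ := hp
  have hp2 : 2 ≤ p := (Fact.out : p.Prime).two_le
  have hNle : N ≤ p ^ N := (Nat.lt_pow_self hp2).le
  refine ⟨E + N, fun x hx => ?_⟩
  have h1 : ∀ n, x.coeff n ^ (p ^ N) = 0 := by
    intro n
    apply pow_eq_zero_of_le hNle
    apply hN
    rw [← WittVector.map_coeff, (RingHom.mem_ker).mp hx, WittVector.zero_coeff]
  have h2 : ∀ n, ((⇑(WittVector.frobenius : WittVector p S →+* WittVector p S))^[N] x).coeff n ∈ Ideal.span {(p : S) ^ 1} := by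
    intro n
    have := iterate_frobenius_coeff_sub_mem x N n
    rw [h1, sub_zero] at this
    rw [pow_one]
    exact this
  rw [Function.iterate_add_apply]
  ext n
  have h3 := iterate_frobenius_coeff_mem_span_pow le_rfl E _ h2 n
  rw [add_comm, pow_succ, hE, zero_mul, Ideal.mem_span_singleton, zero_dvd_iff] at h3
  rw [h3, WittVector.zero_coeff]

end Nilp

end Groth.Agent.H8.FNil
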