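import Mathlib

set_option autoImplicit false

universe u v w z

namespace Groth.Agent.H8.FNil

section Iter

variable {W : Type u} [CommRing W] (σ : W →+* W)
variable {P₁ : Type v} [AddCommGroup P₁] [Module W P₁] {P₂ : Type w} [AddCommGroup P₂] [Module W P₂]
variable {ι₁ : Type z} [Finite ι₁]
variable (b₁ : Module.Basis ι₁ W P₁) (b₁' : Module.Basis ι₁ W P₁)
variable (F₁ : P₁ →ₛₗ[σ] P₁) (F₂ : P₂ →ₛₗ[σ] P₂)

/-- The operator `α ↦ F₂ ∘ α ∘ F₁⁻¹`. -/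
noncomputable def U (α : P₁ →ₗ[W] P₂) : P₁ →ₗ[W] P₂ :=
  b₁'.constr W (fun j => F₂ (α (b₁ j)))

theorem U_basis (α : P₁ →ₗ[W] P₂) (j : ι₁) : U σ b₁ b₁' F₂ α (b₁' j) = F₂ (α (b₁ j)) := by
  rw [U, Module.Basis.constr_basis]

variable {b₁ b₁'} in
theorem U_apply_F (hb : ∀ j, b₁' j = F₁ (b₁ j)) (α : P₁ →ₗ[W] P₂) (x : P₁) :
    U σ b₁ b₁' F₂ α (F₁ x) = F₂ (α x) := by
  classical
  haveI := Fintype.ofFinite ι₁
  conv_lhs => rw [← b₁.sum_repr x]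
  conv_rhs => rw [← b₁.sum_repr x]
  rw [map_sum, map_sum, map_sum, map_sum]
  refine Finset.sum_congr rfl fun j _ => ?_
  rw [map_smulₛₗ, map_smul, map_smul, map_smulₛₗ, ← hb, U_basis]

variable {b₁ b₁'} in
theorem U_eq_self_iff (hb : ∀ j, b₁' j = F₁ (b₁ j)) (α : P₁ →ₗ[W] P₂) :
    U σ b₁ b₁' F₂ α = α ↔ ∀ x, F₂ (α x) = α (F₁ x) := by
  constructor
  · intro h x
    rw [← U_apply_F σ F₁ F₂ hb, h]
  · intro h
    apply b₁'.ext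
    intro j
    rw [U_basis, h, hb]

theorem U_sub (α β : P₁ →ₗ[W] P₂) :
    U σ b₁ b₁' F₂ (α - β) = U σ b₁ b₁' F₂ α - U σ b₁ b₁' F₂ β := by
  apply b₁'.ext
  intro j
  rw [LinearMap.sub_apply, U_basis, U_basis, U_basis, LinearMap.sub_apply, map_sub]

theorem U_add (α β : P₁ →ₗ[W] P₂) :
    U σ b₁ b₁' F₂ (α + β) = U σ b₁ b₁' F₂ α + U σ b₁ b₁' F₂ β := by
  apply b₁'.ext
  intro j
  rw [LinearMap.add_apply, U_basis, U_basis, U_basis, LinearMap.add_apply, map_add]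

theorem U_iterate_sub (n : ℕ) (α β : P₁ →ₗ[W] P₂) :
    (U σ b₁ b₁' F₂)^[n] (α - β) = (U σ b₁ b₁' F₂)^[n] α - (U σ b₁ b₁' F₂)^[n] β := by
  induction n generalizing α β with
  | zero => rfl
  | succ n ih => rw [Function.iterate_succ_apply, Function.iterate_succ_apply,
      Function.iterate_succ_apply, U_sub, ih]

/-- `β` maps into `𝔠 P₂`. -/
def MI (𝔠 : Ideal W) (β : P₁ →ₗ[W] P₂) : Prop := ∀ x, β x ∈ 𝔠 • (⊤ : Submodule W P₂)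

theorem F₂_mem_map {𝔠 : Ideal W} {y : P₂} (hy : y ∈ 𝔠 • (⊤ : Submodule W P₂)) :
    F₂ y ∈ 𝔠.map σ • (⊤ : Submodule W P₂) := by
  refine Submodule.smul_induction_on hy ?_ ?_
  · intro c hc z _
    rw [map_smulₛₗ]
    exact Submodule.smul_mem_smul (Ideal.mem_map_of_mem σ hc) Submodule.mem_top
  · intro y z hy hz
    rw [map_add]
    exact Submodule.add_mem _ hy hz

theorem MI_of_basis {𝔠 : Ideal W} {β : P₁ →ₗ[W] P₂}
    (h : ∀ j, β (b₁' j) ∈ 𝔠 • (⊤ : Submodule W P₂)) : MI 𝔠 β := by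
  classical
  haveI := Fintype.ofFinite ι₁
  intro x
  rw [← b₁'.sum_repr x, map_sum]
  exact Submodule.sum_mem _ fun j _ => by
    rw [map_smul]
    exact Submodule.smul_mem _ _ (h j)

theorem MI_U {𝔠 : Ideal W} {β : P₁ →ₗ[W] P₂} (h : MI 𝔠 β) :
    MI (𝔠.map σ) (U σ b₁ b₁' F₂ β) := by
  apply MI_of_basis b₁'
  intro j
  rw [U_basis]
  exact F₂_mem_map σ F₂ (h _)

theorem MI_U_iterate {𝔠 : Ideal W} {β : P₁ →ₗ[W] P₂} (h : MI 𝔠 β) (n : ℕ) :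
    MI (𝔠.map (σ ^ n)) ((U σ b₁ b₁' F₂)^[n] β) := by
  induction n with
  | zero =>
    have : σ ^ 0 = RingHom.id W := rfl
    rw [this, Ideal.map_id]
    exact h
  | succ n ih =>
    rw [Function.iterate_succ_apply']
    have h1 := MI_U σ b₁ b₁' F₂ ih
    rw [Ideal.map_map] at h1
    have : σ.comp (σ ^ n) = σ ^ (n + 1) := by
      rw [pow_succ']; rfl
    rw [this] at h1
    exact h1

theorem MI_mono {𝔠 𝔠' : Ideal W} (hle : 𝔠 ≤ 𝔠') {β : P₁ →ₗ[W] P₂} (h : MI 𝔠 β) : MI 𝔠' β :=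
  fun x => Submodule.smul_mono_left hle (h x)

theorem eq_zero_of_MI_bot {β : P₁ →ₗ[W] P₂} (h : MI (⊥ : Ideal W) β) : β = 0 := by
  ext x
  have := h x
  rw [Submodule.bot_smul, Submodule.mem_bot] at this
  rw [this, LinearMap.zero_apply]

theorem map_pow_eq_bot {𝔠 : Ideal W} {m : ℕ} (hm : ∀ c ∈ 𝔠, σ^[m] c = 0) :
    𝔠.map (σ ^ m) = ⊥ := by
  rw [Ideal.map_eq_bot_iff_le_ker]
  intro c hc
  rw [RingHom.mem_ker, RingHom.coe_pow]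
  exact hm c hc

theorem map_pow_le {𝔠 : Ideal W} (hst : ∀ c ∈ 𝔠, σ c ∈ 𝔠) (n : ℕ) : 𝔠.map (σ ^ n) ≤ 𝔠 := by
  rw [Ideal.map_le_iff_le_comap]
  intro c hc
  rw [Ideal.mem_comap, RingHom.coe_pow]
  induction n with
  | zero => exact hc
  | succ n ih =>
    rw [Function.iterate_succ_apply']
    exact hst _ ih

variable {b₁ b₁'} in
theorem exists_fixed (hb : ∀ j, b₁' j = F₁ (b₁ j)) {𝔠 : Ideal W} {m : ℕ}
    (hm : ∀ c ∈ 𝔠, σ^[m] c = 0) (hst : ∀ c ∈ 𝔠, σ c ∈ 𝔠) (α₀ : P₁ →ₗ[W] P₂)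
    (hα₀ : ∀ x, F₂ (α₀ x) - α₀ (F₁ x) ∈ 𝔠 • (⊤ : Submodule W P₂)) :
    ∃ α : P₁ →ₗ[W] P₂, (∀ x, α x - α₀ x ∈ 𝔠 • (⊤ : Submodule W P₂)) ∧
      ∀ x, F₂ (α x) = α (F₁ x) := by
  set δ : P₁ →ₗ[W] P₂ := U σ b₁ b₁' F₂ α₀ - α₀ with hδ
  have hδMI : MI 𝔠 δ := by
    apply MI_of_basis b₁'
    intro j
    rw [hδ, LinearMap.sub_apply, U_basis, hb]
    exact hα₀ _
  have hstep : ∀ n, (U σ b₁ b₁' F₂)^[n + 1] α₀ - (U σ b₁ b₁' F₂)^[n] α₀ =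
      (U σ b₁ b₁' F₂)^[n] δ := by
    intro n
    rw [hδ, U_iterate_sub, ← Function.iterate_succ_apply]
  have hMIn : ∀ n, MI 𝔠 ((U σ b₁ b₁' F₂)^[n] α₀ - α₀) := by
    intro n
    induction n with
    | zero =>
      intro x
      simp
    | succ n ih =>
      have h1 : (U σ b₁ b₁' F₂)^[n + 1] α₀ - α₀ =
          (U σ b₁ b₁' F₂)^[n] δ + ((U σ b₁ b₁' F₂)^[n] α₀ - α₀) := by
        rw [← hstep]; abel
      rw [h1]
      intro x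
      rw [LinearMap.add_apply]
      exact Submodule.add_mem _
        (MI_mono (map_pow_le σ hst n) (MI_U_iterate σ b₁ b₁' F₂ hδMI n) x) (ih x)
  refine ⟨(U σ b₁ b₁' F₂)^[m] α₀, fun x => hMIn m x, ?_⟩
  rw [← U_eq_self_iff σ F₁ F₂ hb]
  have h2 : (U σ b₁ b₁' F₂)^[m] δ = 0 := by
    apply eq_zero_of_MI_bot
    have := MI_U_iterate σ b₁ b₁' F₂ hδMI m
    rw [map_pow_eq_bot σ hm] at this
    exact this
  have h3 := hstep m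
  rw [h2, sub_eq_zero, Function.iterate_succ_apply'] at h3
  exact h3

variable {b₁ b₁'} in
theorem fixed_unique (hb : ∀ j, b₁' j = F₁ (b₁ j)) {𝔠 : Ideal W} {m : ℕ}
    (hm : ∀ c ∈ 𝔠, σ^[m] c = 0) (α α' : P₁ →ₗ[W] P₂)
    (hα : ∀ x, F₂ (α x) = α (F₁ x)) (hα' : ∀ x, F₂ (α' x) = α' (F₁ x))
    (hd : ∀ x, α x - α' x ∈ 𝔠 • (⊤ : Submodule W P₂)) : α = α' := by
  have h1 : U σ b₁ b₁' F₂ (α - α') = α - α' := by
    rw [U_sub, (U_eq_self_iff σ F₁ F₂ hb α).mpr hα, (U_eq_self_iff σ F₁ F₂ hb α').mpr hα']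
  have h2 : (U σ b₁ b₁' F₂)^[m] (α - α') = α - α' := Function.iterate_fixed h1 m
  have h3 : MI 𝔠 (α - α') := hd
  have h4 := MI_U_iterate σ b₁ b₁' F₂ h3 m
  rw [map_pow_eq_bot σ hm, h2] at h4
  exact sub_eq_zero.mp (eq_zero_of_MI_bot h4)

end Iter

end Groth.Agent.H8.FNil
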